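/-!
# Data: the Schur multiplier of the Held group
-/

set_option autoImplicit false
set_option maxRecDepth 100000

namespace Cfsg.Lib.CosetEnum.HeMult

/-- The conjugating words. -/
def wsData : List (List Nat) :=
  [[3, 2, 5, 3, 2, 1, 3, 2, 3, 4, 5, 3, 2, 1],
    [3, 2, 6, 3, 2, 1, 3, 2, 3, 4, 6, 3, 2, 1],
    [],
    [3, 2, 3, 2, 1, 4, 3, 2],
    [3, 2, 3, 2, 4, 3],
    [3, 4],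
    [3, 4, 5, 3],
    [3, 4, 6, 3],
    [3, 2, 1, 0, 3, 2, 1, 3, 2, 3, 5, 3, 2, 3, 2, 5, 3, 2, 3],
    [3, 2, 4, 3, 2, 1, 3, 2],
    [3, 2, 1, 0, 3, 2, 1, 3, 2, 3, 6, 3, 2, 3, 2, 6, 3, 2, 3],
    [3, 2, 4],
    [3, 2, 3, 2, 1, 4, 3],
    [3],
    [3, 2],
    [3, 2, 3],
    [3, 2, 3, 2, 4],
    [3, 2, 3, 2],
    [3, 2, 3, 4],
    [3, 2, 4, 3],
    [3, 2, 3, 4, 3, 2],
    [3, 2, 4, 3, 2],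
    [3, 2, 4, 3, 2, 3],
    [3, 2, 3, 4, 3],
    [3, 4, 5],
    [3, 4, 6],
    [3, 4, 5, 3, 6],
    [3, 4, 6, 3, 5],
    [3, 2, 5, 3, 2, 1, 3, 2, 3, 4, 5, 3, 2],
    [3, 2, 6, 3, 2, 1, 3, 2, 3, 4, 6, 3, 2],
    [3, 2, 6, 3, 2, 1, 3, 2, 3, 4, 6, 3],
    [3, 2, 5, 3, 2, 1, 3, 2, 3, 4, 5, 3],
    [3, 2, 1, 0, 3, 2, 1, 3, 2, 5, 3, 2, 3, 2, 5, 3, 2, 3],
    [3, 2, 4, 3, 2, 1, 3],
    [3, 2, 1, 0, 3, 2, 1, 3, 2, 6, 3, 2, 3, 2, 6, 3, 2, 3],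
    [3, 2, 5, 3, 2, 1, 0, 3, 2, 3, 4, 5, 3],
    [3, 2, 6, 3, 2, 1, 0, 3, 2, 3, 4, 6, 3],
    [3, 2, 6, 3, 2, 1, 0, 3, 2, 3, 4, 6, 3, 2],
    [3, 2, 5, 3, 2, 1, 0, 3, 2, 3, 4, 5, 3, 2],
    [3, 2, 6, 3, 2, 1, 0, 3, 2, 3, 4, 6, 3, 2, 1],
    [3, 2, 5, 3, 2, 1, 0, 3, 2, 3, 4, 5, 3, 2, 1],
    [3, 2, 1, 0, 3, 2, 3, 6, 3, 2, 1, 3, 2, 6, 3, 4],
    [3, 2, 1, 3, 2, 3, 5, 3, 2, 3, 2, 1, 6, 3, 2, 3],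
    [3, 2, 1, 0, 3, 5, 3, 2, 3, 2, 1, 4, 3, 2, 3, 6, 5, 3],
    [3, 2, 4, 5, 3, 2, 1, 6, 3],
    [3, 2, 3, 2, 1, 0, 6, 5, 3],
    [3, 2, 1, 3, 5, 3, 2, 1, 6, 3, 2, 1, 4, 3],
    [3, 2, 4, 3, 2, 1, 3, 2, 3, 4, 6, 3, 2],
    [3, 2, 1, 3, 2, 1, 3, 4, 5, 3, 2, 1, 4, 3, 2, 1, 6, 3, 5, 6, 3],
    [3, 2, 1, 0, 3, 2, 3, 4, 5, 3, 2, 6, 3, 4, 5, 3, 4],
    [3, 2, 1, 3, 2, 1, 0, 3, 2, 3, 5, 3, 2, 3, 2, 6, 3],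
    [3, 2, 1, 0, 3, 2, 3, 2, 1, 4, 3, 2, 3, 6, 3, 5, 3, 2],
    [3, 2, 1, 0, 3, 6, 3, 2, 4, 3, 2, 1, 6, 3, 2, 3, 2, 5, 3],
    [3, 2, 1, 0, 3, 5, 3, 2, 1, 3, 2, 1, 3, 6, 3, 5],
    [3, 2, 3, 2, 1, 0, 5, 3, 2, 3, 5, 6, 3, 2],
    [3, 2, 4, 3, 5, 3, 2, 1, 3, 2, 3, 5, 6, 3, 2, 4, 5],
    [3, 2, 1, 3, 2, 3, 2, 6, 3, 2, 5, 3, 2, 4, 6, 3],
    [3, 2, 1, 6, 5, 3, 2, 4, 6, 3, 2, 1, 3, 2, 5, 3, 2, 6, 5],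
    [3, 2, 1, 3, 2, 3, 2, 6, 3, 2, 5, 3, 2, 4, 3, 6, 3],
    [3, 2, 1, 3, 2, 1, 3, 4, 3, 6, 3, 2, 1, 3, 2, 5],
    [3, 2, 5, 3, 2, 1, 0, 3, 2, 3, 5, 6, 3, 5],
    [3, 2, 1, 0, 3, 5, 3, 2, 1, 3, 2, 1, 6, 3, 5],
    [3, 2, 1, 6, 5, 3, 2, 4, 6, 3, 2, 1, 3, 2, 5, 3, 2, 6],
    [3, 2, 1, 6, 3, 2, 1, 3, 4, 6, 3, 2, 1, 3, 4, 5],
    [3, 2, 1, 0, 6, 3, 5, 6, 3, 5],
    [3, 2, 1, 3, 2, 1, 3, 4, 5, 3, 2, 6, 3, 4, 5, 3, 4],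
    [3, 2, 1, 3, 2, 1, 0, 3, 2, 3, 6, 3, 2, 3, 2, 6, 3, 5],
    [3, 2, 4, 3, 6, 3, 2, 1, 3, 2, 3, 4, 6, 3, 2, 5],
    [3, 2, 1, 3, 2, 3, 2, 1, 4, 6, 3, 2, 5, 3, 2, 3, 6, 5, 3],
    [3, 2, 3, 2, 1, 6, 3],
    [3, 2, 1, 6, 5, 3, 2, 4, 6, 3, 2, 1, 3, 2, 3, 5, 3, 2],
    [3, 2, 1, 3, 2, 1, 3, 6, 3, 5, 3, 2, 4, 3, 2, 6, 3],
    [3, 2, 1, 0, 3, 2, 1, 3, 6, 3, 5, 3, 2, 3, 2, 4, 6, 3],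
    [3, 2, 1, 3, 2, 3, 4, 5, 3, 2, 6, 3, 4, 5, 3, 6],
    [3, 2, 4, 3, 6, 3, 2, 3],
    [3, 2, 1, 6, 3, 2, 1, 3, 2, 3, 5, 6, 3, 2, 4, 3],
    [3, 2, 1, 0, 3, 2, 1, 3, 4, 6, 3, 2, 1, 0, 3, 2, 4, 5],
    [3, 2, 1, 3, 2, 1, 0, 3, 2, 1, 3, 2, 3, 5, 6, 3, 2, 4, 3, 5, 3],
    [3, 2, 1, 6, 3, 2, 1, 3, 2, 1, 3, 4, 3, 5],
    [3, 2, 6, 5, 3, 2, 1, 3, 2, 3, 4, 3, 6, 3, 2],
    [3, 2, 1, 5, 3, 6, 3, 2, 1, 3, 2, 1, 3, 2, 1, 5, 3, 2],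
    [3, 2, 1, 0, 3, 2, 1, 3, 2, 3, 6, 3, 5, 3, 2, 3, 4],
    [3, 2, 1, 5, 3, 6, 3, 2, 4, 3, 2, 1, 3, 2, 4, 5, 3, 2],
    [3, 2, 1, 3, 5, 3, 2, 1, 3, 2, 1, 3, 4, 5],
    [3, 2, 1, 3, 2, 3, 2, 6, 3, 2, 1, 0, 5, 3, 2, 1, 3, 2, 3, 2],
    [3, 2, 3, 2, 1, 4, 3, 2, 3, 5, 6, 3, 2, 3, 4, 6, 3],
    [3, 2, 1, 6, 3, 5, 6, 3, 2, 3, 4, 6, 3, 2, 5],
    [3, 2, 1, 3, 2, 1, 3, 2, 1, 3, 2, 4, 3, 5, 6, 3, 2, 3, 5, 3],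
    [3, 2, 1, 3, 2, 4, 3, 2, 1, 3, 2, 5, 6, 3, 2, 5],
    [3, 2, 1, 3, 5, 6, 3, 4, 5, 3],
    [3, 2, 4, 3, 2, 1, 3, 2, 3, 5, 6, 3, 2, 4],
    [3, 5, 6, 3, 2, 1, 5, 3, 4],
    [3, 2, 1, 5, 3, 6, 3, 2, 3, 2, 1, 3, 4, 3, 2, 5, 3, 2],
    [3, 2, 1, 0, 3, 5, 3, 2, 1, 3, 2, 1, 4, 3, 2, 3, 4, 6, 3, 2],
    [3, 2, 1, 3, 2, 1, 3, 4, 5, 3, 2, 4, 6, 3, 4, 5, 3],
    [3, 2, 5, 3, 2, 1, 3, 6],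
    [3, 2, 1, 0, 3, 2, 4, 3, 2, 1, 3, 2, 3, 5, 3, 2, 6],
    [3, 2, 1, 3, 2, 3, 4, 3, 6, 3, 2, 4, 3, 5],
    [3, 2, 1, 3, 2, 3, 6, 3, 2, 5, 3, 2, 3, 4],
    [3, 2, 1, 5, 3, 6, 3, 2, 1, 3, 2, 1, 3, 2, 5, 3, 2, 6],
    [3, 2, 6, 3, 2, 1, 3, 2, 5, 3, 2],
    [3, 5, 6, 3, 2, 5],
    [3, 2, 1, 3, 2, 3, 6, 3, 2, 5, 3, 2, 3, 4, 5],
    [3, 2, 1, 6, 3, 5, 3, 2, 3, 2, 1, 4, 3, 2, 3, 6, 5, 3, 2],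
    [3, 2, 1, 3, 6, 3, 5, 3, 2, 4, 3, 2, 1, 3, 2, 4, 5, 3, 2],
    [3, 2, 3, 2, 1, 0, 5, 3, 6],
    [3, 2, 1, 0, 5, 3, 2, 1, 3, 2, 4],
    [3, 2, 1, 0, 3, 2, 1, 3, 4, 6, 3, 2, 1, 4, 3, 2, 1, 3, 4],
    [3, 2, 1, 0, 3, 5, 3, 2, 1, 3, 2, 1, 3, 6, 3],
    [3, 2, 1, 0, 3, 2, 4, 3, 2, 1, 3, 2, 3, 6, 5, 3, 2, 4],
    [3, 2, 1, 3, 2, 1, 3, 2, 1, 0, 3, 4, 5, 3, 2, 6, 3, 4],
    [3, 2, 1, 3, 2, 5, 6, 3, 2, 3, 2, 1, 4, 6, 3, 2, 3, 5, 6],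
    [3, 2, 4, 3, 2, 1, 3, 2, 3, 4, 5, 3, 2, 6],
    [3, 2, 1, 3, 6, 3, 2, 1, 4, 3, 2, 1, 6, 3, 4],
    [3, 2, 1, 3, 2, 1, 3, 2, 3, 6, 3, 2, 1, 3, 2, 5, 6, 3, 5],
    [3, 2, 1, 0, 3, 2, 4, 3, 2, 1, 3, 2, 3, 6, 3, 5, 3, 2],
    [3, 2, 1, 5, 3, 2, 1, 6, 5, 3, 2, 1, 3],
    [3, 2, 1, 3, 2, 3, 2, 1, 5, 3, 2, 1, 3, 2, 6, 5, 3, 2, 3, 6],
    [3, 2, 3, 6, 3, 2, 1, 4, 3, 2],
    [3, 2, 1, 0, 3, 6, 3, 2, 1, 3, 2, 1, 6, 3],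
    [3, 2, 3, 2, 1, 6, 3, 2, 3, 4, 6, 3, 2, 1, 3, 2, 1, 5, 3],
    [3, 2, 1, 5, 3, 2, 1, 3, 2, 1, 5, 3, 2],
    [3, 2, 1, 0, 5, 3, 4, 6, 3, 2, 3, 2, 1, 6, 3, 2, 3, 2, 5, 3],
    [3, 2, 1, 5, 3, 4, 6, 3, 2, 4, 3, 2, 1, 3, 2, 5, 3, 2],
    [3, 2, 1, 3, 2, 3, 4, 6, 3, 2, 1, 3, 5, 3, 2, 4, 3, 2, 1, 3],
    [3, 2, 1, 3, 2, 3, 2, 6, 3, 2, 1, 5, 3, 2, 1, 0, 3, 2, 6, 3],
    [3, 2, 1, 3, 2, 1, 3, 2, 5, 3, 2, 1, 3, 2, 3, 6, 3, 2, 3, 2],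
    [3, 2, 1, 3, 2, 3, 2, 1, 4, 6, 3, 2, 3, 5, 3, 2, 3],
    [3, 2, 1, 0, 3, 4, 6, 3, 2, 1, 3, 2, 6, 3, 2, 4, 3, 2],
    [3, 2, 3, 4, 6, 3, 2, 1, 3, 2, 3, 2, 4],
    [3, 2, 1, 0, 3, 2, 3, 2, 1, 4, 3, 2, 3, 6, 5, 3, 2, 4],
    [3, 5, 6, 3, 2, 1, 5, 3],
    [3, 2, 1, 0, 3, 2, 3, 2, 6, 3, 2, 1, 5, 3, 2, 1, 4, 3, 2, 1, 3],
    [3, 2, 1, 3, 2, 3, 4, 6, 3, 2, 5, 3, 6, 3, 5, 3],
    [3, 2, 1, 3, 2, 3, 2, 5, 3, 2, 1, 6, 3, 2, 1, 3, 2, 5, 3, 6],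
    [3, 2, 1, 0, 6, 3, 4, 5, 3],
    [3, 2, 3, 2, 1, 6, 5, 3, 4],
    [3, 2, 1, 0, 5, 3, 6, 5, 3, 2, 3, 4, 3, 5, 3, 2],
    [3, 2, 1, 3, 4, 5, 3, 2, 6, 3, 4, 5, 3, 6],
    [3, 2, 1, 6, 3, 5, 3, 2, 3, 2, 1, 4, 3, 2, 5, 3, 2],
    [3, 2, 1, 3, 2, 3, 6, 3, 2, 5, 3, 2, 3],
    [3, 2, 1, 0, 3, 6, 3, 2, 1, 3, 4, 6, 3, 2, 1, 3, 4],
    [3, 2, 1, 6, 3, 5, 6, 3, 2, 3, 4, 3, 6, 3, 2],
    [3, 2, 1, 3, 6, 3, 2, 1, 3, 2, 1, 4, 6, 3],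
    [3, 2, 1, 3, 5, 3, 2, 1, 3, 2, 1, 0, 3, 6],
    [3, 2, 1, 3, 6, 3, 2, 1, 3, 2, 1, 3],
    [3, 2, 1, 3, 2, 1, 3, 2, 3, 6, 3, 2, 1, 3, 2, 4, 5, 3, 6, 5],
    [3, 2, 3, 5, 3, 2, 1, 4, 3, 2],
    [3, 2, 1, 3, 2, 3, 2, 1, 4, 6, 3, 2, 3, 5, 3, 2, 3, 4, 5],
    [3, 2, 1, 0, 3, 2, 6, 3, 5, 6],
    [3, 2, 1, 5, 3, 2, 1, 3, 2, 1, 3, 5, 3, 2],
    [3, 2, 1, 3, 2, 1, 3, 4, 6, 3, 2, 1, 3, 2, 1, 6, 3, 4],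
    [3, 5, 6, 3, 2, 1, 5, 3, 2, 3, 2, 1, 4, 3],
    [3, 2, 3, 2, 1, 5, 3, 2, 6, 3, 5, 6, 3, 2, 4],
    [3, 2, 1, 3, 2, 1, 3, 2, 1, 3, 2, 6, 3, 2, 1, 3, 2, 3, 5, 3],
    [3, 2, 1, 0, 3, 4, 6, 3, 2, 1, 3, 2, 1, 3],
    [3, 2, 1, 3, 2, 1, 3, 2, 3, 6, 3, 2, 1, 3, 2, 4, 5, 3, 4],
    [3, 2, 1, 0, 3, 6, 3, 2, 1, 3, 4, 6, 3, 2, 1, 3],
    [3, 2, 1, 6, 3, 2, 1, 0, 3, 2, 1, 6, 3],
    [3, 2, 1, 3, 2, 3, 2, 5, 3, 2, 1, 4, 3, 2, 6, 3, 2, 5, 3, 4],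
    [3, 2, 1, 6, 3, 2, 1, 3, 2, 1, 3, 6, 3],
    [3, 2, 1, 6, 3, 5, 6, 3, 2, 4, 3, 2, 1, 3, 2, 3, 5, 3, 2, 4],
    [3, 2, 1, 3, 2, 1, 3, 2, 1, 3, 6, 3, 2, 1, 3, 4, 6, 3, 2, 3, 6],
    [3, 2, 1, 3, 2, 3, 2, 6, 3, 2, 5, 3, 2, 3],
    [3, 2, 1, 3, 2, 3, 2, 1, 5, 3, 2, 3, 6, 3, 2, 3, 2, 5, 3, 2],
    [3, 2, 3, 2, 1, 5, 3, 2, 3, 5, 6, 3, 2, 5],
    [3, 5, 6, 3, 2, 1],
    [3, 2, 1, 6, 3, 5, 6, 3, 2, 1, 3, 4, 6, 3, 2, 5],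
    [3, 2, 1, 6, 3, 2, 5, 6, 3, 2, 3, 2, 1, 4, 3, 2, 5, 3, 2, 4],
    [3, 2, 1, 3, 2, 4, 3, 2, 1, 3, 2, 5, 6, 3, 2],
    [3, 2, 1, 5, 3, 6, 3, 2, 1, 3, 2, 1, 3, 2, 5, 3, 2, 6, 5],
    [3, 2, 1, 0, 3, 2, 3, 2, 1, 4, 3, 2, 3, 6, 5, 3, 2, 4, 6],
    [3, 2, 1, 3, 2, 1, 3, 2, 1, 3, 6, 3, 2, 3, 4, 5, 3, 2, 3, 2, 4],
    [3, 2, 1, 0, 3, 6, 3, 5, 3, 2, 3, 2, 1, 4, 3, 2, 5, 3, 2, 4],
    [3, 5, 6, 3],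
    [3, 2, 1, 3, 2, 1, 3, 2, 3, 5, 3, 2, 3, 2, 6, 3],
    [3, 2, 4, 3, 2, 1, 3, 2, 3, 5, 6, 3, 2],
    [3, 2, 1, 3, 2, 1, 0, 3, 4, 6, 3, 2, 1, 3, 2, 1, 3],
    [3, 5, 6, 3, 2, 1, 5, 3, 2, 3, 2, 1, 4, 3, 5],
    [3, 2, 1, 6, 3, 2, 1, 3, 2, 1, 3, 4, 3],
    [3, 2, 1, 3, 2, 1, 3, 4, 3, 6, 3, 2, 1, 3, 2, 5, 3, 4, 6, 3],
    [3, 2, 1, 3, 6, 3, 5, 3, 2, 3, 2, 1, 3, 4, 3, 2, 5, 3, 2, 4],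
    [3, 2, 3, 4, 5, 3, 2, 1, 3, 2, 3, 4, 6, 3, 2],
    [3, 2, 1, 0, 3, 2, 1, 3, 2, 3, 2, 5, 3, 2, 1, 6, 3, 2, 3],
    [3, 2, 1, 3, 2, 1, 3, 2, 6, 3, 2, 1, 3, 2, 5, 3, 2, 3, 4, 6],
    [3, 2, 1, 3, 6, 5, 3, 2, 4, 3, 2, 5, 3, 4],
    [3, 2, 1, 0, 5, 3, 2, 3, 6, 3],
    [3, 2, 1, 5, 3, 2, 1, 4, 3, 2, 1, 3, 2, 3, 5, 6, 3, 2],
    [3, 2, 1, 6, 3, 5, 3, 2, 3, 2, 1, 5, 3, 2, 3, 4, 3, 5],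
    [3, 2, 1, 5, 3, 4, 6, 3, 2, 3, 2, 1, 4, 3, 2, 5, 3, 2],
    [3, 2, 1, 3, 2, 4, 3, 2, 1, 6, 3, 2, 3, 5, 3, 2, 3, 4, 6],
    [3, 2, 1, 0, 5, 3, 2, 4, 3, 2, 1, 6, 3, 2, 1, 5, 3, 2, 3, 6],
    [3, 2, 1, 0, 3, 2, 1, 5, 6, 3, 2, 3, 5, 3, 2, 1, 3, 2, 3, 4],
    [3, 2, 1, 3, 2, 1, 3, 2, 3, 5, 3, 2, 3, 2, 5, 3, 6],
    [3, 2, 1, 3, 2, 1, 3, 2, 1, 0, 3, 6, 3, 2, 3, 4, 5, 3, 2, 3, 2],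
    [3, 2, 1, 6, 3, 2, 1, 3, 2, 3, 5, 6, 3, 2, 4, 3, 5],
    [3, 5, 6, 3, 2, 1, 5, 3, 2, 4, 3, 2, 1, 3, 5],
    [3, 2, 1, 3, 2, 1, 3, 2, 1, 5, 6, 3, 2, 5, 3],
    [3, 2, 1, 6, 3, 4, 5, 3, 2, 3, 4, 6, 3, 2, 5],
    [3, 2, 1, 3, 2, 1, 3, 5, 3, 6, 3, 2, 4, 3, 2, 5, 3],
    [3, 2, 1, 6, 3, 5, 6, 3, 2, 3, 2, 1, 4, 3, 2, 5, 3, 2, 4],
    [3, 2, 1, 3, 4, 5, 3, 2, 6, 3, 5, 3, 6, 3, 4],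
    [3, 2, 1, 0, 3, 2, 3, 4, 6, 3, 2, 3, 6],
    [3, 2, 1, 0, 3, 2, 3, 4, 3, 6, 3, 2, 3, 4, 3],
    [3, 2, 3, 2, 1, 6, 3, 5, 3, 2, 3, 4, 6, 3, 2],
    [3, 2, 6, 3, 2, 1, 3, 2, 3, 4, 6, 3, 2, 1, 3, 2],
    [3, 2, 4, 3, 2, 5],
    [3, 2, 3, 2, 5],
    [3, 2, 3, 4, 3, 5],
    [3, 2, 4, 3, 5],
    [3, 2, 3, 4, 3, 2, 5],
    [3, 2, 3, 2, 1, 4, 3, 2, 3, 4, 5, 3, 2, 1, 3, 2, 3],
    [3, 2, 3, 2, 1, 6, 3, 2, 3, 4, 6, 3, 2, 1, 5],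
    [3, 2, 1, 3, 2, 1, 5, 3, 4, 6, 3],
    [3, 2, 1, 3, 2, 1, 0, 3, 2, 4, 5, 3],
    [3, 2, 1, 3, 2, 1, 5, 3, 4, 6, 3, 4, 5],
    [3, 2, 1, 3, 2, 1, 0, 3, 2, 4, 3, 5, 3, 4],
    [3, 2, 1, 3, 2, 1, 4, 3, 2, 5, 3, 4, 6],
    [3, 2, 1, 3, 2, 1, 4, 3, 2, 5, 3, 6],
    [3, 2, 1, 6, 3, 2, 1, 0, 3, 2, 3, 6, 3, 2, 1, 0],
    [3, 2, 1, 3, 2, 1, 5, 3, 4, 6, 3, 4],
    [3, 2, 1, 3, 2, 1, 4, 3, 2, 3, 5, 3, 6],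
    [3, 2, 1, 3, 2, 1, 0, 3, 2, 4, 3, 5, 3],
    [3, 2, 1, 6, 3, 2, 1, 3, 2, 6, 3, 2, 1, 0],
    [3, 2, 1, 3, 2, 1, 3, 6, 5, 3, 2, 3, 2, 4, 6, 3, 2, 5],
    [3, 2, 1, 6, 3, 2, 1, 3, 2, 6, 3, 2, 1],
    [3, 2, 1, 3, 2, 1, 0, 3, 2, 4, 5, 3, 4],
    [3, 2, 1, 3, 2, 1, 4, 3, 2, 5, 3, 6, 5],
    [3, 2, 1, 3, 2, 1, 0, 5, 3, 6, 5, 3, 2, 3, 4, 5, 3],
    [3, 5, 6, 3, 5],
    [3, 5, 6, 3, 2, 4, 5],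
    [3, 2, 4, 5],
    [3, 5, 6, 3, 4, 5],
    [3, 2, 3, 2, 6, 3, 5, 3],
    [3, 2, 3, 5, 3, 6],
    [3, 2, 3, 5, 3],
    [3, 2, 6, 5],
    [3, 2, 4, 6],
    [3, 2, 6, 3, 5],
    [3, 2, 5, 6, 3, 5],
    [3, 6, 5, 3, 2, 3, 5],
    [3, 2, 6, 3, 4, 5],
    [3, 6, 5, 3, 2, 3, 4],
    [3, 6, 5, 3, 2, 3],
    [3, 2, 5, 3, 6, 5, 3],
    [3, 2, 5, 3, 6, 5, 3, 6],
    [3, 2, 4, 6, 3, 5],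
    [3, 2, 4, 5, 3, 4, 6],
    [3, 2, 6, 3, 5, 6],
    [3, 2, 4, 6, 3, 2],
    [3, 2, 3, 4, 5, 3, 2, 4, 6],
    [3, 6, 5, 3],
    [3, 2, 4, 3, 2, 6, 5, 3],
    [3, 2, 3, 4, 3, 2, 5, 3],
    [3, 2, 3, 5, 6, 3, 5],
    [3, 2, 4, 3, 6, 3, 2],
    [3, 2, 6, 3, 2, 4],
    [3, 2, 3, 4, 3, 6, 3, 2],
    [3, 2, 3, 4, 6],
    [3, 2, 3, 6, 3, 5, 3, 4],
    [3, 2, 5],
    [3, 2, 4, 5, 3, 4, 6, 3],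
    [3, 2, 6, 5, 3, 2, 3, 4],
    [3, 2, 5, 3, 2, 4, 6],
    [3, 2, 4, 3, 5, 6, 3, 4, 5],
    [3, 2, 4, 5, 3, 6],
    [3, 2, 3, 2, 6, 3],
    [3, 6, 5],
    [3, 2, 6, 5, 3, 2, 3, 5],
    [3, 5],
    [3, 2, 3, 5, 3, 2, 6],
    [3, 2, 6, 3, 5, 6, 3, 2],
    [3, 2, 3, 6, 5, 3, 6],
    [3, 2, 4, 3, 5, 3, 6],
    [3, 2, 3, 5],
    [3, 2, 3, 6, 3, 5],
    [3, 2, 5, 3, 6, 3, 5],
    [3, 2, 6],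
    [3, 2, 4, 5, 3, 2, 4],
    [3, 2, 4, 6, 3, 2, 5, 3],
    [3, 2, 5, 3, 6],
    [3, 2, 4, 3, 6],
    [3, 2, 5, 6, 3, 4, 5],
    [3, 2, 5, 6, 3, 2, 4, 3, 5],
    [3, 2, 3, 4, 5, 3, 6],
    [3, 2, 3, 4, 6, 3, 4, 5],
    [3, 2, 6, 5, 3, 4],
    [3, 2, 4, 3, 5, 6, 3, 2],
    [3, 2, 4, 3, 6, 3, 4],
    [3, 2, 3, 5, 6, 3, 2, 3, 4],
    [3, 2, 4, 6, 3, 2, 4, 3],
    [3, 2, 3, 2, 6, 5, 3, 4],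
    [3, 2, 4, 5, 3, 2],
    [3, 2, 3, 2, 5, 3, 6, 3, 4],
    [3, 2, 3, 6, 3, 2, 5],
    [3, 6, 5, 3, 2, 6, 3],
    [3, 2, 4, 3, 2, 5, 6],
    [3, 2, 6, 5, 3, 4, 6, 3],
    [3, 2, 4, 3, 2, 6, 5, 3, 4],
    [3, 2, 6, 3, 2],
    [3, 2, 5, 3, 4, 6],
    [3, 6, 5, 3, 2, 6, 3, 2],
    [3, 2, 5, 3, 2, 3, 6],
    [3, 2, 3, 4, 6, 3, 2],
    [3, 5, 6, 3, 2, 4],
    [3, 6, 5, 3, 2],
    [3, 2, 6, 3, 2, 5, 3, 4],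
    [3, 2, 4, 6, 3, 4],
    [3, 2, 3, 5, 6, 3, 4],
    [3, 2, 3, 6, 3, 2, 4, 3],
    [3, 2, 3, 2, 5, 6, 3, 4],
    [3, 2, 5, 3, 2, 6, 3, 4],
    [3, 2, 3, 4, 3, 5, 3, 4],
    [3, 2, 3, 4, 5, 3, 2, 4],
    [3, 2, 3, 5, 6, 3, 2, 3],
    [3, 2, 3, 4, 3, 6, 3, 4],
    [3, 2, 5, 3, 2, 6, 3],
    [3, 2, 4, 3, 6, 5, 3, 2, 3],
    [3, 2, 3, 5, 6, 3, 2, 3, 5],
    [3, 2, 3, 4, 3, 5, 3, 6],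
    [3, 2, 5, 6, 3, 2, 3, 6],
    [3, 2, 3, 2, 5, 3, 6, 3],
    [3, 2, 3, 5, 3, 2, 4],
    [3, 2, 3, 5, 6],
    [3, 2, 3, 5, 3, 6, 3],
    [3, 2, 4, 3, 2, 5, 6, 3, 5],
    [3, 2, 3, 4, 6, 3, 2, 4],
    [3, 2, 3, 2, 5, 6],
    [3, 2, 3, 5, 3, 2],
    [3, 2, 4, 5, 3, 4],
    [3, 2, 4, 5, 3],
    [3, 2, 4, 6, 3, 2, 4, 5],
    [3, 2, 3, 2, 5, 6, 3],
    [3, 2, 4, 6, 3, 4, 5, 3],
    [3, 2, 3, 4, 5, 3, 4, 6],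
    [3, 2, 3, 4, 5, 3, 2, 3],
    [3, 2, 4, 3, 2, 6, 5, 3, 6],
    [3, 2, 3, 5, 6, 3, 2, 5],
    [3, 2, 4, 3, 2, 5, 6, 3, 4],
    [3, 2, 3, 4, 3, 5, 3],
    [3, 2, 6, 5, 3, 2, 3],
    [3, 2, 6, 3, 5, 6, 3],
    [3, 2, 6, 3, 2, 5, 3],
    [3, 6, 5, 3, 4, 6],
    [3, 2, 5, 3, 2],
    [3, 6, 5, 3, 2, 4, 6, 3],
    [3, 2, 3, 2, 4, 5],
    [3, 2, 4, 6, 3, 2, 4],
    [3, 2, 1, 3, 2, 1, 3, 5, 3, 6, 3],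
    [3, 2, 1, 3, 2, 1, 4, 3, 2, 3, 2, 6, 5, 3, 2, 4, 3],
    [3, 2, 1, 3, 2, 1, 4, 3, 2, 6, 3, 2, 5, 3, 2, 1],
    [3, 2, 3, 5, 3, 6, 3, 4],
    [3, 2, 5, 3, 6, 5],
    [3, 2, 3, 2, 6, 5, 3, 2, 4],
    [3, 2, 3, 6, 5, 3, 2, 3, 4],
    [3, 2, 3, 2, 5, 6, 3, 2],
    [3, 2, 4, 5, 3, 2, 6],
    [3, 2, 5, 3, 4, 6, 3, 4],
    [3, 2, 6, 3, 5, 6, 3, 5],
    [3, 2, 1, 3, 2, 1, 3, 2, 1, 3, 2, 5, 3, 2, 1, 3, 2, 6, 3, 2],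
    [3, 2, 3, 6, 5],
    [3, 6, 5, 3, 4],
    [3, 2, 3, 2, 6, 5, 3],
    [3, 5, 6, 3, 2, 4, 5, 3],
    [3, 2, 6, 5, 3, 2, 3, 5, 6],
    [3, 2, 3, 5, 3, 4],
    [3, 2, 5, 3, 6, 3],
    [3, 2, 3, 2, 6, 5, 3, 2],
    [3, 2, 3, 4, 6, 3, 5, 6],
    [3, 2, 4, 3, 5, 3, 4],
    [3, 2, 3, 6, 5, 3, 2, 3, 6],
    [3, 2, 6, 3, 4],
    [3, 2, 5, 3, 2, 6],
    [3, 2, 6, 3, 2, 5, 6],
    [3, 2, 4, 6, 3, 2, 5],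
    [3, 6, 5, 3, 2, 6, 3, 4],
    [3, 2, 1, 3, 4, 5, 3, 2, 6, 5, 3, 2, 3, 5],
    [3, 2, 1, 3, 2, 1, 0, 6, 3, 2, 3, 5],
    [3, 2, 3, 2, 1, 0, 5, 3, 2, 6, 3, 2, 3, 5],
    [3, 2, 1, 5, 3, 2, 4, 6, 3, 2, 3, 5],
    [3, 2, 1, 0, 5, 3, 2, 4, 6, 3, 2, 3, 5],
    [3, 2, 1, 3, 2, 1, 6, 5, 3, 2, 4, 3, 6, 5],
    [3, 2, 1, 3, 2, 1, 0, 5, 3, 4, 6, 3, 2],
    [3, 2, 1, 5, 3, 2, 6, 5, 3, 2, 3, 5],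
    [3, 2, 1, 0, 5, 3, 2, 6, 5, 3, 2, 3, 5],
    [3, 2, 3, 2, 1, 5, 3, 2, 6, 3, 2, 3, 5],
    [3, 2, 1, 0, 3, 6, 3, 2, 3, 5, 6, 3, 5],
    [3, 2, 1, 3, 2, 1, 5, 6, 3, 2, 3, 5],
    [3, 2, 1, 3, 6, 3, 5, 3, 2, 3, 4, 3, 6, 3, 2],
    [3, 2, 1, 3, 2, 1, 4, 6, 3, 2, 4, 3, 6, 5],
    [3, 2, 1, 6, 3, 2, 1, 4, 3, 2, 1, 5, 3, 2],
    [3, 2, 1, 5, 3, 2, 6, 3, 2, 4, 3, 6, 5],
    [3, 2, 1, 3, 2, 5, 6, 3, 2, 4, 5, 3, 2, 4],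
    [3, 2, 1, 0, 3, 2, 1, 6, 3, 2, 4, 3, 6, 5]]

/-- The indices of the generators. -/
def exs : List (List Nat) :=
  [[0, 1],
    [2, 3],
    [2, 4],
    [5],
    [2],
    [6],
    [7]]

/-- Products of commutators. -/
def comms : List (List (List Nat × List Nat)) :=
  [[([2], [6])],
    [([2], [6, 7])],
    [([0], [7, 6])],
    [([4, 5], [7, 6])],
    [([3, 4], [7, 6])],
    [([3], [6])],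
    [([6, 7, 6, 7], [7]), ([7, 7, 6, 7], [6, 7, 6, 7, 6])],
    [([6], [7, 6, 7, 6, 7]), ([7, 6, 7, 7, 6], [7, 7, 6, 7])]]

/-- Programs for the short relators. -/
def progsSmall : List (List (Nat × Nat × Nat)) :=
  [[(1, 1, 0), (0, 0, 0), (0, 0, 0)],
   [(5, 1, 2), (4, 1, 2), (3, 1, 2), (2, 0, 0), (11, 1, 2), (10, 1, 2), (9, 1, 2), (8, 0, 0),
    (7, 1, 8), (6, 1, 9), (5, 1, 9), (4, 1, 10), (3, 1, 3), (2, 0, 0), (1, 1, 0), (0, 0, 0),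
    (0, 0, 0), (2, 1, 0), (1, 0, 0), (1, 0, 0), (0, 0, 0)],
   [(3, 1, 0), (2, 1, 0), (1, 1, 0), (0, 0, 0), (2, 1, 1), (1, 1, 1), (0, 0, 0), (1, 1, 2),
    (0, 0, 0), (0, 0, 0)],
   [(4, 1, 11), (3, 1, 5), (2, 0, 0), (1, 1, 0), (0, 0, 0), (0, 0, 0)],
   [(2, 1, 0), (1, 1, 0), (0, 0, 0), (1, 1, 1), (0, 0, 0), (0, 0, 0)],
   [(2, 1, 0), (1, 1, 0), (0, 0, 0), (1, 1, 1), (0, 0, 0), (0, 0, 0)],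
   [(2, 1, 0), (1, 1, 0), (0, 0, 0), (1, 1, 1), (0, 0, 0), (0, 0, 0)],
   [(3, 1, 2), (2, 1, 2), (1, 1, 2), (0, 0, 0), (9, 1, 2), (8, 1, 2), (7, 1, 2), (6, 0, 0),
    (5, 1, 8), (4, 1, 9), (3, 1, 9), (2, 1, 10), (1, 1, 3), (0, 0, 0), (4, 1, 0), (3, 0, 0),
    (3, 0, 0), (2, 0, 0), (1, 1, 0), (0, 0, 0), (0, 0, 0)],
   [(1, 1, 2), (0, 0, 0), (0, 0, 0)],
   [(1, 1, 2), (0, 0, 0), (3, 1, 2), (2, 0, 0), (5, 1, 2), (4, 0, 0), (2, 1, 12), (1, 1, 3),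
    (0, 0, 0), (1, 0, 0), (0, 0, 0)],
   [(4, 1, 13), (3, 1, 5), (2, 0, 0), (1, 1, 2), (0, 0, 0), (0, 0, 0)],
   [(2, 0, 0), (1, 0, 0), (0, 0, 0)],
   [(2, 1, 2), (1, 1, 2), (0, 0, 0), (1, 1, 3), (0, 0, 0), (0, 0, 0)],
   [(2, 1, 2), (1, 1, 2), (0, 0, 0), (1, 1, 3), (0, 0, 0), (0, 0, 0)],
   [(3, 1, 2), (2, 1, 2), (1, 1, 2), (0, 0, 0), (2, 1, 4), (1, 1, 4), (0, 0, 0), (1, 1, 0),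
    (0, 0, 0), (0, 0, 0)],
   [(1, 1, 2), (0, 0, 0), (3, 1, 2), (2, 0, 0), (5, 1, 2), (4, 0, 0), (2, 1, 12), (1, 1, 4),
    (0, 0, 0), (1, 0, 0), (0, 0, 0)],
   [(1, 1, 2), (0, 0, 0), (0, 0, 0)],
   [(14, 1, 13), (13, 1, 11), (12, 1, 14), (11, 1, 15), (10, 1, 16), (9, 1, 17), (8, 1, 17), (7, 1, 18),
    (6, 1, 15), (5, 1, 14), (4, 1, 5), (3, 1, 13), (2, 1, 2), (1, 1, 2), (0, 0, 0), (18, 1, 13),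
    (17, 1, 11), (16, 1, 14), (15, 1, 15), (14, 1, 16), (13, 1, 4), (12, 0, 0), (11, 1, 13), (10, 1, 2),
    (9, 1, 2), (8, 0, 0), (12, 1, 13), (11, 1, 11), (10, 1, 14), (9, 1, 15), (8, 1, 16), (7, 1, 4),
    (6, 0, 0), (5, 1, 13), (4, 1, 2), (3, 1, 2), (2, 0, 0), (12, 1, 14), (11, 1, 15), (10, 1, 16),
    (9, 1, 4), (8, 0, 0), (12, 1, 4), (11, 0, 0), (12, 1, 13), (11, 1, 5), (10, 0, 0), (7, 1, 13),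
    (6, 1, 2), (5, 1, 2), (4, 0, 0), (7, 1, 2), (6, 0, 0), (4, 1, 14), (3, 1, 15), (2, 1, 16),
    (1, 1, 4), (0, 0, 0), (3, 0, 0), (2, 0, 0), (1, 0, 0), (0, 0, 0)],
   [(2, 0, 0), (1, 0, 0), (0, 0, 0)],
   [(2, 1, 2), (1, 1, 2), (0, 0, 0), (1, 1, 4), (0, 0, 0), (0, 0, 0)],
   [(2, 1, 2), (1, 1, 2), (0, 0, 0), (1, 1, 4), (0, 0, 0), (0, 0, 0)],
   [(2, 1, 11), (1, 1, 5), (0, 0, 0), (1, 1, 0), (0, 0, 0), (0, 0, 0)],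
   [(2, 1, 13), (1, 1, 5), (0, 0, 0), (1, 1, 2), (0, 0, 0), (0, 0, 0)],
   [(14, 1, 14), (13, 1, 11), (12, 1, 19), (11, 1, 20), (10, 1, 21), (9, 1, 22), (8, 1, 22), (7, 1, 22),
    (6, 1, 21), (5, 1, 23), (4, 1, 19), (3, 1, 11), (2, 1, 13), (1, 1, 5), (0, 0, 0), (13, 1, 2),
    (12, 0, 0), (12, 0, 0), (11, 0, 0), (10, 1, 2), (9, 0, 0), (9, 0, 0), (8, 0, 0), (7, 1, 2),
    (6, 0, 0), (6, 0, 0), (5, 0, 0), (4, 1, 2), (3, 0, 0), (3, 0, 0), (2, 0, 0), (1, 1, 2),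
    (0, 0, 0), (0, 0, 0)],
   [(0, 0, 0)],
   [(2, 1, 13), (1, 1, 5), (0, 0, 0), (1, 0, 0), (0, 0, 0)],
   [(2, 1, 24), (1, 1, 5), (0, 0, 0), (1, 0, 0), (0, 0, 0)],
   [(2, 1, 25), (1, 1, 5), (0, 0, 0), (1, 0, 0), (0, 0, 0)],
   [(2, 1, 2), (1, 1, 2), (0, 0, 0), (1, 1, 0), (0, 0, 0), (0, 0, 0)],
   [(0, 0, 0), (1, 0, 0), (0, 0, 0)],
   [(0, 0, 0), (1, 0, 0), (0, 0, 0)],
   [(2, 1, 13), (1, 1, 2), (0, 0, 0), (1, 0, 0), (0, 0, 0)],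
   [(0, 0, 0)],
   [(1, 1, 2), (0, 0, 0), (0, 0, 0)],
   [(1, 1, 2), (0, 0, 0), (0, 0, 0)],
   [(2, 1, 6), (1, 1, 6), (0, 0, 0), (1, 1, 0), (0, 0, 0), (0, 0, 0)],
   [(2, 1, 6), (1, 1, 6), (0, 0, 0), (1, 1, 2), (0, 0, 0), (0, 0, 0)],
   [(2, 1, 6), (1, 1, 6), (0, 0, 0), (1, 1, 2), (0, 0, 0), (0, 0, 0)],
   [(2, 1, 24), (1, 1, 6), (0, 0, 0), (1, 0, 0), (0, 0, 0)],
   [(1, 1, 6), (0, 0, 0), (0, 0, 0)],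
   [(0, 0, 0)],
   [(3, 1, 26), (2, 1, 26), (1, 1, 6), (0, 0, 0), (2, 0, 0), (1, 0, 0), (0, 0, 0)],
   [(2, 1, 7), (1, 1, 7), (0, 0, 0), (1, 1, 0), (0, 0, 0), (0, 0, 0)],
   [(2, 1, 7), (1, 1, 7), (0, 0, 0), (1, 1, 2), (0, 0, 0), (0, 0, 0)],
   [(2, 1, 7), (1, 1, 7), (0, 0, 0), (1, 1, 2), (0, 0, 0), (0, 0, 0)],
   [(2, 1, 25), (1, 1, 7), (0, 0, 0), (1, 0, 0), (0, 0, 0)],
   [(1, 1, 7), (0, 0, 0), (0, 0, 0)],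
   [(3, 1, 27), (2, 1, 27), (1, 1, 7), (0, 0, 0), (2, 0, 0), (1, 0, 0), (0, 0, 0)],
   [(0, 0, 0)],
   [(4, 1, 2), (3, 1, 2), (2, 1, 2), (1, 1, 2), (0, 0, 0), (3, 1, 27), (2, 1, 27), (1, 1, 7),
    (0, 0, 0), (2, 0, 0), (1, 0, 0), (0, 0, 0)]]

def prog0_0 : List (Nat × Nat × Nat) :=
  [(5, 0, 0), (11, 1, 2), (10, 0, 0), (15, 1, 2), (14, 0, 0), (5, 1, 2), (4, 1, 2), (3, 1, 2),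
    (2, 1, 2), (1, 1, 2), (0, 0, 0), (2, 1, 26), (2, 1, 27), (14, 1, 1), (1, 1, 7), (0, 0, 0),
    (7, 1, 28), (2, 1, 12), (5, 1, 4), (4, 1, 4), (3, 0, 0), (6, 1, 29), (7, 1, 12), (8, 0, 0),
    (0, 1, 26), (0, 1, 6), (7, 1, 30), (0, 1, 26), (6, 1, 30), (8, 1, 31), (3, 1, 1), (8, 1, 32),
    (7, 1, 32), (6, 1, 33), (5, 1, 33), (4, 1, 34), (3, 1, 12), (2, 0, 0), (6, 1, 35), (0, 1, 6),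
    (4, 1, 36), (0, 1, 26), (5, 1, 35), (1, 1, 1), (2, 1, 0), (5, 1, 28), (2, 1, 6), (6, 1, 37),
    (1, 1, 6), (6, 1, 31), (0, 1, 6), (0, 1, 26), (5, 1, 31), (2, 1, 0), (1, 1, 0), (6, 1, 37),
    (6, 1, 28), (4, 1, 31), (2, 1, 1), (6, 1, 37)]

def prog0_1 : List (Nat × Nat × Nat) :=
  [(5, 1, 37), (4, 1, 29), (2, 1, 6), (1, 1, 6), (3, 1, 29), (5, 1, 36), (2, 1, 37), (5, 1, 31),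
    (4, 1, 35), (1, 1, 37), (5, 1, 36), (6, 1, 38), (4, 1, 36), (0, 1, 37), (0, 1, 26), (6, 1, 39),
    (2, 1, 0), (1, 1, 40), (1, 1, 29), (1, 1, 0), (6, 1, 28), (5, 1, 28), (4, 1, 38), (4, 1, 30),
    (6, 1, 1), (4, 1, 28), (4, 1, 36), (5, 1, 39), (4, 1, 39), (4, 1, 36), (6, 1, 35), (2, 1, 6),
    (3, 1, 36), (1, 1, 6), (1, 1, 0), (1, 1, 6), (1, 1, 0), (2, 1, 36), (6, 1, 28), (4, 1, 39),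
    (1, 1, 30), (5, 1, 28), (3, 1, 39), (5, 1, 29), (6, 1, 35), (5, 1, 31), (0, 1, 30), (1, 1, 0),
    (4, 1, 31), (6, 1, 28), (3, 1, 35), (2, 1, 35), (1, 1, 35), (4, 1, 6), (6, 1, 29), (5, 1, 29),
    (2, 1, 26), (0, 1, 35), (4, 1, 29), (6, 1, 38)]

def prog0_2 : List (Nat × Nat × Nat) :=
  [(2, 1, 0), (0, 1, 30), (4, 1, 6), (1, 1, 0), (3, 1, 6), (0, 1, 40), (4, 1, 29), (0, 1, 36),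
    (4, 1, 26), (0, 1, 0), (0, 1, 30), (2, 1, 6), (5, 1, 38), (5, 1, 29), (4, 1, 29), (3, 1, 37),
    (0, 1, 40), (2, 1, 37), (6, 1, 1), (0, 1, 36), (2, 1, 6), (0, 1, 0), (4, 1, 26), (3, 1, 26),
    (5, 1, 39), (3, 1, 37), (6, 1, 38), (2, 1, 37), (5, 1, 28), (4, 1, 28), (4, 1, 26), (2, 1, 6),
    (0, 1, 30), (3, 1, 26), (2, 1, 26), (3, 1, 37), (2, 1, 37), (5, 1, 1), (4, 1, 1), (0, 1, 40),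
    (2, 1, 26), (3, 1, 1), (5, 1, 28), (4, 1, 28), (4, 1, 37), (2, 1, 1), (5, 1, 6), (1, 1, 1),
    (2, 1, 26), (0, 1, 1), (6, 1, 35), (3, 1, 37), (6, 1, 28), (1, 1, 26), (2, 1, 29), (5, 1, 28),
    (0, 1, 26), (2, 1, 0), (2, 1, 37), (3, 1, 36)]

def prog0_3 : List (Nat × Nat × Nat) :=
  [(1, 1, 37), (2, 1, 36), (5, 1, 6), (3, 1, 0), (5, 1, 28), (5, 1, 6), (4, 1, 6), (0, 1, 37),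
    (5, 1, 38), (1, 1, 36), (0, 1, 36), (0, 1, 37), (3, 1, 6), (6, 1, 31), (3, 1, 0), (3, 1, 6),
    (4, 1, 38), (5, 1, 31), (0, 1, 36), (5, 1, 0), (2, 1, 6), (4, 1, 0), (5, 1, 31), (2, 1, 26),
    (6, 1, 39), (5, 1, 1), (3, 1, 0), (5, 1, 35), (4, 1, 35), (4, 1, 6), (4, 1, 35), (1, 1, 26),
    (3, 1, 35), (2, 1, 31), (5, 1, 1), (6, 1, 38), (5, 1, 28), (2, 1, 29), (6, 1, 6), (0, 1, 26),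
    (5, 1, 6), (0, 1, 36), (5, 1, 28), (4, 1, 28), (6, 1, 1), (6, 1, 6), (0, 1, 26), (2, 1, 35),
    (6, 1, 1), (4, 1, 0), (0, 1, 36), (2, 1, 37), (3, 1, 0), (5, 1, 39), (4, 1, 1), (6, 1, 6),
    (6, 1, 28), (2, 1, 40), (2, 1, 29), (2, 1, 0)]

def prog0_4 : List (Nat × Nat × Nat) :=
  [(8, 2, 41), (3, 1, 1), (1, 1, 0), (7, 1, 42), (4, 1, 31), (2, 1, 1), (2, 1, 26), (4, 1, 37),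
    (8, 1, 42), (3, 1, 37), (5, 1, 28), (4, 1, 38), (5, 1, 35), (4, 1, 35), (8, 1, 43), (1, 1, 26),
    (0, 1, 26), (3, 1, 31), (1, 1, 40), (0, 1, 40), (2, 1, 31), (2, 1, 36), (3, 1, 29), (0, 1, 26),
    (5, 1, 39), (7, 1, 6), (8, 0, 0), (2, 1, 29), (4, 1, 1), (4, 1, 35), (1, 1, 37), (5, 1, 28),
    (5, 1, 39), (1, 1, 0), (3, 1, 35), (5, 1, 38), (2, 1, 31), (6, 1, 6), (0, 1, 0), (6, 1, 39),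
    (0, 1, 26), (4, 1, 28), (4, 1, 30), (4, 1, 38), (0, 1, 0), (5, 1, 39), (5, 1, 30), (1, 1, 31),
    (1, 1, 26), (5, 1, 39), (0, 1, 26), (0, 1, 0), (0, 1, 26), (3, 1, 38), (4, 1, 39), (2, 1, 38),
    (1, 1, 38), (1, 1, 0), (2, 1, 31), (5, 1, 30)]

def prog0_5 : List (Nat × Nat × Nat) :=
  [(2, 1, 38), (5, 1, 37), (1, 1, 38), (0, 1, 38), (3, 1, 1), (3, 1, 35), (1, 1, 0), (1, 2, 44),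
    (0, 1, 45), (2, 1, 46), (0, 1, 47), (6, 1, 37), (6, 1, 1), (2, 1, 48), (0, 1, 44), (3, 1, 49),
    (8, 1, 6), (8, 1, 30), (4, 1, 50), (3, 1, 50), (4, 1, 51), (6, 1, 37), (3, 1, 52), (6, 1, 1),
    (4, 1, 49), (4, 1, 50), (8, 1, 6), (8, 1, 30), (8, 1, 6), (7, 1, 6), (2, 1, 53), (6, 1, 6),
    (7, 1, 37), (3, 1, 54), (5, 1, 55), (3, 1, 45), (4, 1, 56), (3, 1, 57), (8, 1, 30), (3, 1, 56),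
    (2, 1, 58), (7, 1, 30), (1, 1, 56), (5, 1, 6), (6, 1, 59), (8, 1, 1), (6, 1, 60), (2, 1, 61),
    (4, 1, 62), (3, 1, 62), (7, 1, 63), (8, 1, 33), (5, 1, 64), (7, 1, 33), (2, 1, 65), (7, 1, 63),
    (3, 1, 66), (3, 1, 53), (3, 1, 47), (7, 1, 33)]

def prog0_6 : List (Nat × Nat × Nat) :=
  [(6, 1, 67), (6, 1, 68), (2, 1, 69), (0, 1, 70), (6, 1, 33), (3, 1, 71), (3, 1, 44), (2, 1, 44),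
    (1, 0, 0), (1, 1, 72), (3, 1, 69), (2, 0, 0), (1, 1, 73), (4, 1, 74), (0, 1, 75), (4, 1, 76),
    (2, 1, 77), (3, 1, 78), (0, 1, 79), (2, 1, 80), (4, 1, 30), (2, 1, 81), (1, 1, 82), (1, 1, 83),
    (2, 1, 80), (0, 1, 84), (4, 1, 85), (2, 1, 82), (0, 1, 86), (1, 1, 87), (1, 1, 88), (1, 1, 89),
    (0, 1, 90), (1, 1, 91), (4, 1, 74), (4, 1, 72), (1, 1, 92), (0, 1, 93), (0, 1, 94), (4, 1, 30),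
    (1, 1, 95), (0, 1, 96), (2, 1, 97), (2, 1, 98), (4, 1, 85), (2, 1, 99), (3, 1, 100), (0, 1, 101),
    (2, 1, 102), (4, 1, 103), (2, 1, 104), (4, 1, 105), (4, 2, 106), (6, 1, 107), (6, 1, 108), (0, 1, 109),
    (4, 1, 106), (5, 1, 110), (2, 1, 100), (1, 1, 100)]

def prog0_7 : List (Nat × Nat × Nat) :=
  [(4, 1, 108), (4, 1, 111), (5, 1, 111), (0, 1, 112), (2, 1, 113), (2, 1, 114), (4, 1, 111), (6, 1, 39),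
    (0, 1, 115), (0, 1, 116), (4, 0, 0), (3, 1, 117), (0, 1, 100), (3, 1, 118), (3, 1, 119), (0, 1, 109),
    (1, 1, 120), (0, 1, 121), (3, 1, 122), (0, 1, 56), (3, 1, 39), (1, 1, 123), (3, 1, 113), (2, 1, 124),
    (0, 1, 125), (1, 1, 126), (4, 1, 127), (1, 1, 128), (3, 1, 45), (0, 1, 129), (2, 1, 130), (0, 1, 131),
    (3, 1, 132), (2, 1, 79), (4, 1, 133), (4, 1, 134), (0, 1, 0), (2, 1, 135), (1, 1, 136), (4, 1, 137),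
    (1, 1, 135), (0, 1, 138), (2, 1, 68), (0, 1, 135), (3, 1, 139), (1, 1, 140), (2, 1, 141), (3, 1, 142),
    (4, 1, 143), (0, 1, 144), (1, 1, 145), (0, 1, 133), (1, 1, 130), (0, 1, 146), (2, 1, 147), (4, 1, 148),
    (3, 2, 149), (5, 1, 150), (3, 1, 149), (0, 1, 151)]

def prog0_8 : List (Nat × Nat × Nat) :=
  [(1, 1, 152), (3, 0, 0), (1, 1, 147), (3, 1, 153), (1, 1, 146), (4, 1, 154), (3, 1, 154), (0, 1, 121),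
    (2, 1, 155), (2, 1, 156), (0, 1, 157), (2, 1, 158), (3, 1, 159), (1, 1, 160), (0, 1, 161), (3, 1, 153),
    (0, 1, 162), (4, 1, 163), (2, 1, 164), (4, 1, 165), (4, 1, 166), (3, 1, 167), (4, 1, 62), (4, 1, 165),
    (0, 1, 168), (3, 1, 45), (2, 1, 169), (0, 1, 170), (3, 1, 86), (1, 1, 171), (3, 1, 172), (1, 1, 173),
    (1, 1, 169), (2, 1, 174), (1, 1, 175), (3, 1, 176), (3, 1, 177), (0, 1, 178), (2, 1, 179), (4, 1, 114),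
    (0, 1, 180), (1, 1, 181), (2, 1, 90), (4, 1, 182), (4, 1, 62), (3, 1, 183), (0, 2, 184), (0, 2, 185),
    (4, 2, 186), (9, 1, 60), (8, 1, 0), (8, 1, 187), (5, 1, 188), (2, 1, 184), (4, 1, 180), (10, 1, 189),
    (8, 1, 60), (7, 1, 105), (5, 1, 186), (0, 1, 185)]

def prog0_9 : List (Nat × Nat × Nat) :=
  [(5, 1, 186), (0, 0, 0), (0, 0, 0), (1, 0, 0), (3, 1, 190), (4, 1, 191), (3, 1, 192), (4, 1, 189),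
    (0, 1, 193), (3, 1, 194), (4, 1, 94), (3, 1, 195), (4, 1, 196), (4, 1, 60), (2, 1, 197), (1, 1, 198),
    (3, 1, 105), (0, 1, 190), (0, 1, 194), (2, 1, 193), (1, 1, 194), (0, 0, 0), (0, 1, 199), (2, 1, 130),
    (2, 1, 200), (0, 1, 201), (1, 1, 202), (0, 1, 181), (1, 1, 180), (0, 1, 202), (2, 1, 128), (2, 1, 196),
    (0, 1, 199), (0, 1, 200), (2, 1, 190), (1, 1, 201), (0, 1, 128), (1, 1, 203), (0, 1, 202), (0, 1, 204),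
    (0, 1, 203), (2, 1, 130), (0, 1, 128), (2, 1, 181), (1, 1, 199), (0, 1, 200), (2, 1, 201), (2, 1, 200),
    (2, 1, 128), (1, 0, 0), (0, 0, 0)]

def mid0_0 : List Nat :=
  [2, 7, 6, 7, 6, 2, 2, 4, 2, 3, 0, 1, 2, 4, 2, 3, 0, 1, 2, 4, 2, 3, 0, 1]

def mid0_1 : List Nat :=
  [26, 0, 1, 6, 31, 36, 37, 28]

def mid0_2 : List Nat :=
  [35, 30, 26, 0, 29, 6, 38, 39]

def mid0_3 : List Nat :=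
  [26, 1, 37, 36, 0, 28, 6, 35]

def mid0_4 : List Nat :=
  [36, 26, 0, 29, 1, 35, 28, 6]

def mid0_5 : List Nat :=
  [26, 0, 31, 38, 39, 30, 37, 6]

def mid0_6 : List Nat :=
  [44, 56, 65, 47, 53, 64, 57, 33, 63, 59]

def mid0_7 : List Nat :=
  [109, 100, 101, 104, 106, 110, 106, 107]

def mid0_8 : List Nat :=
  [151, 146, 147, 149, 149, 150, 144, 143]

def mid0_9 : List Nat :=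
  [185, 185, 184, 184, 180, 186, 186, 105, 181, 187, 189, 183]

def mid0_10 : List Nat :=
  []

def prog1_0 : List (Nat × Nat × Nat) :=
  [(19, 1, 13), (18, 1, 11), (17, 1, 14), (16, 1, 15), (15, 1, 16), (14, 1, 17), (13, 1, 17), (12, 1, 18),
    (11, 1, 15), (10, 1, 14), (9, 1, 5), (8, 1, 13), (7, 1, 2), (6, 1, 2), (5, 1, 2), (4, 1, 2),
    (3, 1, 2), (2, 1, 2), (1, 1, 2), (0, 0, 0), (16, 1, 4), (11, 1, 14), (13, 1, 4), (12, 0, 0),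
    (14, 1, 2), (5, 1, 11), (5, 1, 205), (8, 1, 14), (7, 1, 11), (6, 0, 0), (7, 1, 2), (6, 0, 0),
    (7, 1, 11), (9, 1, 13), (10, 1, 16), (11, 0, 0), (7, 1, 2), (10, 1, 14), (8, 1, 17), (8, 1, 4),
    (7, 1, 4), (6, 0, 0), (0, 1, 26), (1, 0, 0), (1, 1, 0), (0, 1, 0), (5, 1, 21), (0, 1, 26),
    (4, 1, 20), (3, 1, 4), (5, 1, 16), (4, 1, 23), (3, 1, 21), (0, 1, 0), (5, 1, 17), (2, 1, 206),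
    (3, 1, 4), (6, 1, 23), (4, 1, 207), (5, 1, 208)]

def prog1_1 : List (Nat × Nat × Nat) :=
  [(2, 1, 208), (2, 1, 4), (3, 1, 209), (2, 1, 210), (4, 0, 0), (4, 1, 211), (0, 1, 26), (2, 1, 209),
    (1, 1, 206), (0, 1, 20), (3, 1, 40), (3, 1, 209), (2, 1, 206), (1, 1, 20), (0, 0, 0), (2, 1, 6),
    (2, 1, 40), (1, 1, 40), (0, 1, 40), (0, 1, 26), (2, 1, 6), (0, 1, 40), (0, 1, 26), (1, 1, 6),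
    (2, 1, 0), (2, 1, 40), (0, 1, 6), (2, 1, 0), (0, 1, 26), (1, 1, 0), (0, 1, 0), (1, 1, 6),
    (2, 1, 40), (1, 1, 40), (0, 1, 40), (1, 1, 6), (1, 1, 0), (2, 1, 26), (1, 1, 26), (2, 1, 6),
    (2, 1, 0), (1, 1, 0), (0, 1, 0), (2, 1, 6), (0, 1, 40), (2, 1, 26), (2, 1, 6), (2, 1, 26),
    (1, 1, 26), (2, 1, 6), (2, 1, 0), (1, 1, 0), (2, 1, 6), (2, 1, 26), (1, 1, 26), (2, 1, 6),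
    (0, 1, 26), (1, 1, 6), (2, 1, 0), (0, 1, 6)]

def prog1_2 : List (Nat × Nat × Nat) :=
  [(0, 1, 26), (1, 1, 0), (2, 1, 40), (1, 1, 40), (1, 1, 0), (1, 1, 40), (2, 1, 6), (2, 1, 0),
    (2, 1, 6), (1, 1, 6), (1, 1, 40), (1, 1, 6), (0, 1, 6), (1, 1, 40), (1, 1, 26), (2, 1, 0),
    (1, 1, 0), (2, 1, 40), (2, 1, 26), (2, 1, 40), (2, 1, 26), (2, 1, 40), (1, 1, 40), (0, 1, 40),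
    (1, 1, 0), (0, 1, 0), (1, 1, 6), (0, 1, 6), (0, 1, 0), (1, 1, 40), (2, 1, 26), (2, 1, 6),
    (1, 1, 6), (0, 1, 6), (0, 1, 0), (1, 1, 40), (1, 1, 6), (0, 1, 6), (1, 1, 40), (1, 1, 0),
    (2, 1, 26), (0, 1, 0), (1, 1, 26), (1, 1, 6), (1, 1, 26), (0, 1, 26), (0, 1, 0), (1, 1, 6),
    (0, 1, 6), (2, 1, 40), (1, 1, 40), (2, 1, 26), (0, 1, 40), (0, 1, 6), (1, 1, 26), (0, 1, 26),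
    (1, 1, 40), (2, 1, 0), (1, 1, 0), (0, 1, 0)]

def prog1_3 : List (Nat × Nat × Nat) :=
  [(0, 1, 26), (0, 1, 0), (0, 1, 26), (1, 1, 40), (0, 1, 40), (0, 1, 26), (1, 1, 0), (1, 1, 40),
    (0, 1, 40), (1, 1, 0), (1, 1, 26), (2, 1, 6), (0, 1, 26), (0, 1, 40), (2, 1, 0), (2, 1, 6),
    (2, 1, 0), (2, 1, 6), (0, 1, 26), (0, 1, 40), (2, 1, 0), (0, 1, 26), (2, 1, 6), (0, 1, 40),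
    (1, 1, 6), (1, 1, 26), (2, 1, 0), (1, 1, 0), (1, 1, 26), (2, 1, 6), (2, 1, 0), (0, 1, 26),
    (1, 1, 0), (0, 1, 0), (1, 1, 40), (2, 1, 6), (2, 1, 26), (2, 1, 6), (1, 1, 6), (2, 1, 26),
    (0, 1, 6), (0, 1, 0), (0, 1, 6), (0, 1, 0), (1, 1, 26), (0, 1, 26), (2, 1, 40), (0, 1, 0),
    (0, 1, 26), (1, 1, 40), (1, 1, 0), (0, 1, 0), (1, 1, 40), (0, 1, 40), (1, 1, 26), (0, 1, 26),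
    (1, 1, 0), (2, 1, 6), (1, 1, 6), (2, 1, 40)]

def prog1_4 : List (Nat × Nat × Nat) :=
  [(1, 1, 40), (0, 1, 40), (1, 1, 6), (1, 1, 26), (1, 1, 6), (1, 1, 26), (1, 1, 6), (1, 1, 26),
    (1, 1, 6), (1, 1, 26), (1, 1, 6), (1, 1, 26), (0, 1, 26), (1, 1, 6), (0, 1, 6), (1, 1, 40),
    (0, 1, 40), (0, 1, 6), (2, 1, 0), (0, 1, 40), (2, 1, 26), (1, 1, 26), (1, 1, 6), (2, 1, 0),
    (0, 1, 6), (0, 1, 40), (0, 1, 6), (2, 1, 26), (0, 2, 212), (3, 2, 40), (4, 1, 40), (0, 1, 212),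
    (5, 1, 26), (0, 1, 212), (4, 1, 26), (0, 1, 212), (5, 1, 40), (5, 1, 40), (0, 0, 0), (3, 0, 0),
    (0, 1, 40), (0, 1, 6), (0, 1, 40), (2, 1, 0), (0, 1, 6), (0, 1, 40), (2, 1, 26), (0, 1, 6),
    (2, 1, 0), (1, 1, 0), (2, 1, 26), (0, 1, 0), (2, 1, 40), (1, 1, 40), (0, 1, 40), (1, 1, 6),
    (1, 1, 0), (2, 1, 26), (0, 1, 0), (1, 1, 26)]

def prog1_5 : List (Nat × Nat × Nat) :=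
  [(1, 1, 40), (2, 1, 6), (2, 1, 26), (2, 1, 6), (2, 1, 26), (1, 1, 26), (0, 1, 26), (0, 1, 0),
    (2, 1, 6), (0, 1, 26), (2, 1, 40), (1, 1, 40), (2, 1, 6), (1, 2, 213), (1, 1, 213), (2, 1, 214),
    (4, 1, 0), (4, 1, 6), (4, 1, 0), (0, 1, 215), (4, 1, 6), (1, 1, 216), (1, 1, 217), (1, 1, 0),
    (4, 1, 0), (3, 1, 218), (2, 1, 218), (3, 1, 219), (2, 1, 220), (0, 1, 221), (4, 1, 222), (3, 1, 0),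
    (0, 1, 223), (2, 1, 217), (4, 1, 217), (4, 1, 218), (4, 1, 217), (3, 1, 0), (2, 1, 216), (4, 1, 6),
    (4, 1, 215), (3, 1, 224), (1, 1, 216), (2, 1, 225), (2, 1, 226), (4, 1, 222), (2, 1, 213), (3, 1, 0),
    (4, 1, 217), (3, 1, 227), (2, 1, 216), (1, 0, 0), (1, 1, 218), (2, 1, 26), (1, 1, 221), (2, 1, 225),
    (2, 1, 222), (0, 1, 226), (1, 1, 218), (2, 1, 225)]

def prog1_6 : List (Nat × Nat × Nat) :=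
  [(2, 1, 223), (2, 1, 225), (2, 1, 223), (1, 1, 228), (0, 1, 223), (1, 1, 218), (2, 1, 213), (2, 1, 26),
    (1, 1, 221), (2, 1, 225), (1, 1, 224), (2, 1, 26), (1, 1, 222), (2, 1, 0), (0, 1, 218), (0, 1, 228),
    (0, 1, 0), (2, 1, 228), (1, 0, 0), (0, 0, 0)]

def mid1_0 : List Nat :=
  [2, 7, 6, 7, 6, 0, 1, 5, 2, 4, 5, 2, 4, 5, 2, 4, 5, 2, 4, 5, 2, 4]

def mid1_1 : List Nat :=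
  [0, 26, 206, 4, 207, 208, 6, 205]

def mid1_2 : List Nat :=
  [6, 26, 0, 40]

def mid1_3 : List Nat :=
  [0, 26, 40, 6]

def mid1_4 : List Nat :=
  [26, 6, 40, 0]

def mid1_5 : List Nat :=
  [0, 26, 40, 6]

def mid1_6 : List Nat :=
  [226, 218, 225, 223]

def mid1_7 : List Nat :=
  []

def prog2_0 : List (Nat × Nat × Nat) :=
  [(7, 1, 24), (14, 1, 2), (3, 1, 27), (7, 1, 6), (6, 1, 6), (5, 1, 6), (4, 0, 0), (11, 1, 2),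
    (2, 1, 229), (7, 1, 2), (1, 1, 230), (10, 1, 13), (10, 1, 2), (9, 1, 2), (8, 1, 2), (7, 0, 0),
    (2, 1, 14), (14, 1, 27), (8, 1, 11), (4, 1, 4), (3, 0, 0), (9, 1, 4), (8, 1, 4), (7, 0, 0),
    (6, 1, 231), (0, 1, 101), (9, 1, 229), (8, 1, 232), (7, 1, 233), (6, 1, 234), (5, 1, 235), (4, 1, 14),
    (3, 1, 11), (2, 1, 2), (1, 0, 0), (4, 1, 236), (6, 1, 237), (3, 1, 238), (6, 1, 7), (5, 0, 0),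
    (6, 1, 24), (4, 1, 239), (5, 0, 0), (4, 1, 240), (0, 1, 14), (2, 1, 241), (2, 1, 242), (2, 1, 243),
    (1, 1, 244), (2, 1, 245), (4, 1, 246), (2, 1, 247), (1, 1, 248), (3, 1, 249), (2, 1, 250), (0, 1, 251),
    (3, 1, 252), (2, 1, 253), (2, 1, 25), (4, 1, 254)]

def prog2_1 : List (Nat × Nat × Nat) :=
  [(3, 1, 255), (1, 1, 256), (2, 1, 257), (2, 1, 258), (3, 1, 259), (4, 1, 260), (2, 1, 261), (4, 1, 262),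
    (4, 1, 263), (4, 1, 244), (3, 1, 264), (4, 1, 265), (3, 1, 266), (0, 1, 249), (2, 1, 245), (0, 1, 267),
    (3, 1, 268), (0, 1, 256), (4, 1, 269), (3, 1, 244), (0, 1, 251), (1, 1, 270), (1, 1, 271), (4, 1, 206),
    (2, 1, 272), (1, 1, 273), (2, 1, 274), (1, 1, 275), (0, 1, 276), (0, 1, 275), (1, 1, 277), (1, 1, 278),
    (0, 1, 279), (1, 1, 280), (0, 1, 281), (1, 1, 278), (3, 1, 282), (0, 1, 283), (0, 1, 284), (4, 1, 268),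
    (1, 1, 285), (2, 1, 286), (3, 1, 229), (3, 1, 268), (0, 1, 274), (2, 1, 287), (0, 1, 258), (2, 1, 288),
    (0, 1, 285), (0, 1, 284), (4, 1, 289), (0, 1, 274), (2, 1, 268), (1, 1, 290), (4, 1, 291), (3, 1, 292),
    (2, 1, 293), (0, 1, 294), (1, 1, 295), (0, 1, 229)]

def prog2_2 : List (Nat × Nat × Nat) :=
  [(1, 1, 296), (2, 1, 297), (3, 1, 281), (0, 1, 298), (0, 1, 299), (0, 1, 296), (4, 1, 300), (4, 1, 301),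
    (1, 1, 302), (2, 1, 266), (0, 1, 277), (4, 1, 303), (1, 1, 304), (0, 1, 231), (3, 1, 303), (0, 1, 305),
    (1, 1, 306), (1, 1, 238), (3, 1, 299), (0, 1, 307), (3, 1, 303), (3, 1, 299), (2, 1, 300), (1, 1, 234),
    (2, 1, 308), (4, 1, 289), (1, 1, 309), (2, 1, 310), (0, 1, 255), (0, 1, 309), (1, 1, 311), (4, 1, 294),
    (0, 1, 312), (3, 1, 245), (0, 1, 311), (2, 1, 313), (0, 1, 309), (3, 1, 314), (1, 1, 315), (3, 1, 285),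
    (4, 1, 289), (1, 1, 313), (2, 1, 316), (2, 1, 285), (0, 1, 284), (3, 1, 317), (4, 1, 262), (0, 1, 318),
    (4, 1, 286), (2, 1, 319), (2, 1, 320), (4, 1, 314), (1, 1, 18), (2, 1, 26), (4, 1, 316), (1, 1, 321),
    (4, 1, 262), (3, 1, 322), (3, 1, 323), (1, 1, 274)]

def prog2_3 : List (Nat × Nat × Nat) :=
  [(4, 1, 324), (3, 1, 325), (2, 1, 303), (0, 1, 326), (4, 1, 262), (1, 1, 327), (1, 1, 303), (0, 1, 2),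
    (0, 1, 303), (2, 1, 322), (1, 1, 328), (4, 1, 284), (1, 1, 329), (1, 1, 330), (4, 1, 322), (4, 1, 323),
    (0, 1, 331), (2, 1, 251), (0, 1, 332), (0, 1, 333), (0, 1, 330), (0, 1, 303), (0, 1, 331), (0, 1, 332),
    (1, 1, 299), (2, 1, 244), (2, 1, 334), (2, 1, 230), (3, 1, 335), (4, 1, 336), (4, 1, 337), (4, 1, 322),
    (2, 1, 338), (0, 1, 339), (4, 1, 334), (2, 1, 340), (2, 1, 333), (0, 1, 341), (1, 1, 251), (0, 1, 255),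
    (2, 1, 289), (0, 1, 342), (0, 1, 330), (0, 1, 251), (2, 1, 239), (1, 1, 239), (3, 1, 343), (3, 1, 334),
    (3, 1, 289), (1, 1, 330), (3, 1, 343), (1, 1, 239), (4, 1, 322), (4, 1, 289), (0, 1, 254), (3, 1, 334),
    (4, 1, 344), (4, 1, 345), (0, 1, 346), (1, 1, 347)]

def prog2_4 : List (Nat × Nat × Nat) :=
  [(4, 1, 322), (1, 1, 330), (0, 1, 253), (2, 1, 291), (4, 2, 348), (3, 1, 349), (2, 1, 350), (0, 1, 330),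
    (6, 1, 343), (4, 1, 349), (3, 1, 350), (2, 0, 0), (2, 1, 334), (3, 1, 351), (4, 1, 321), (3, 1, 13),
    (0, 1, 346), (3, 1, 352), (1, 1, 353), (1, 1, 354), (4, 1, 327), (4, 1, 344), (4, 1, 291), (2, 1, 355),
    (1, 1, 343), (3, 1, 291), (0, 1, 343), (0, 1, 346), (3, 1, 353), (2, 1, 240), (0, 1, 343), (1, 1, 232),
    (3, 1, 254), (4, 1, 356), (1, 1, 293), (1, 1, 240), (4, 1, 344), (1, 1, 346), (0, 1, 346), (2, 1, 254),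
    (0, 1, 343), (2, 1, 240), (2, 1, 254), (0, 1, 346), (0, 1, 343), (1, 1, 233), (3, 1, 357), (1, 1, 239),
    (4, 1, 274), (3, 1, 334), (0, 1, 238), (1, 1, 327), (0, 1, 27), (2, 1, 289), (0, 1, 275), (0, 1, 346),
    (4, 1, 358), (3, 2, 346), (4, 2, 359), (4, 1, 359)]

def prog2_5 : List (Nat × Nat × Nat) :=
  [(7, 1, 360), (4, 0, 0), (3, 0, 0), (3, 1, 358), (1, 1, 361), (0, 1, 356), (0, 1, 362), (0, 1, 361),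
    (3, 1, 343), (2, 1, 363), (1, 1, 364), (0, 1, 365), (1, 1, 346), (4, 1, 323), (0, 1, 302), (2, 1, 366),
    (4, 1, 344), (2, 1, 11), (4, 1, 240), (2, 1, 289), (4, 1, 357), (4, 1, 358), (4, 1, 323), (0, 1, 23),
    (4, 1, 344), (1, 1, 232), (4, 1, 240), (1, 1, 367), (0, 1, 368), (0, 1, 369), (4, 1, 357), (1, 1, 370),
    (4, 1, 358), (4, 1, 323), (3, 1, 355), (3, 1, 371), (2, 1, 372), (1, 1, 369), (0, 0, 0), (2, 1, 373),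
    (1, 1, 374), (1, 1, 373), (2, 1, 232), (2, 1, 355), (0, 1, 268), (1, 1, 375), (2, 1, 368), (0, 1, 374),
    (0, 1, 375), (1, 1, 373), (2, 1, 358), (0, 1, 232), (0, 1, 373), (2, 1, 370), (0, 1, 375), (1, 1, 268),
    (0, 1, 374), (1, 1, 232), (1, 1, 373), (1, 1, 375)]

def prog2_6 : List (Nat × Nat × Nat) :=
  [(0, 1, 268), (1, 1, 368), (2, 1, 370), (0, 1, 355), (2, 1, 358), (1, 1, 232), (1, 1, 358), (1, 1, 268),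
    (0, 1, 368), (0, 1, 268), (2, 1, 374), (1, 1, 373), (1, 1, 374), (2, 1, 355), (0, 2, 370), (2, 1, 375),
    (4, 1, 358), (3, 1, 232), (2, 1, 373), (3, 1, 374), (4, 1, 370), (2, 1, 368), (4, 1, 355), (2, 1, 374),
    (2, 1, 373), (2, 1, 368), (0, 1, 370), (4, 1, 375), (4, 1, 370), (2, 1, 374), (2, 1, 373), (0, 0, 0),
    (1, 1, 358), (1, 1, 370), (2, 1, 368), (2, 1, 375), (2, 1, 358), (1, 1, 374), (2, 1, 355), (2, 1, 375),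
    (0, 1, 368), (1, 1, 232), (2, 1, 358), (1, 1, 268), (1, 1, 358), (1, 1, 232), (0, 1, 370), (2, 1, 355),
    (1, 1, 268), (1, 1, 355), (1, 1, 368), (2, 1, 373), (1, 1, 374), (2, 1, 268), (1, 1, 375), (0, 1, 355),
    (0, 1, 375), (1, 1, 232), (0, 1, 373), (1, 1, 370)]

def prog2_7 : List (Nat × Nat × Nat) :=
  [(0, 1, 268), (1, 1, 232), (0, 1, 358), (0, 1, 232), (0, 1, 268), (1, 1, 375), (1, 1, 373), (1, 1, 232),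
    (2, 1, 374), (0, 2, 376), (0, 1, 376), (3, 1, 355), (3, 1, 374), (3, 1, 232), (1, 1, 377), (1, 1, 378),
    (0, 1, 379), (3, 1, 355), (4, 1, 375), (3, 1, 370), (3, 1, 375), (4, 1, 368), (2, 1, 380), (1, 1, 380),
    (0, 1, 374), (1, 1, 377), (2, 1, 376), (2, 1, 378), (3, 1, 381), (0, 1, 377), (0, 1, 374), (1, 1, 376),
    (3, 1, 382), (4, 1, 383), (0, 1, 384), (0, 1, 385), (2, 1, 386), (0, 1, 387), (2, 1, 382), (2, 1, 377),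
    (2, 1, 386), (0, 1, 376), (1, 1, 370), (4, 1, 388), (1, 1, 389), (4, 1, 389), (1, 1, 379), (2, 1, 390),
    (0, 1, 378), (3, 0, 0), (0, 1, 268), (1, 1, 391), (0, 1, 392), (2, 1, 393), (0, 1, 393), (2, 1, 392),
    (1, 0, 0), (0, 0, 0)]

def mid2_0 : List Nat :=
  [2, 4, 5, 6, 7, 2, 4, 5, 6, 7, 2, 4, 5, 6, 7, 2, 4, 5, 6, 7]

def mid2_1 : List Nat :=
  [251, 14, 25, 253, 254, 244]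

def mid2_2 : List Nat :=
  [229, 294, 274, 284, 288, 289]

def mid2_3 : List Nat :=
  [318, 274, 321, 323, 322, 316]

def mid2_4 : List Nat :=
  [346, 347, 254, 334, 345, 344]

def mid2_5 : List Nat :=
  [346, 275, 289, 346, 359, 359, 346, 343, 358, 357]

def mid2_6 : List Nat :=
  [374, 375, 373, 358]

def mid2_7 : List Nat :=
  [373, 370, 375, 368]

def mid2_8 : List Nat :=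
  []

end Cfsg.Lib.CosetEnum.HeMult
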