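import Cfsg.Agent.Lib.CosetEnum.HeMult.Defs
import Cfsg.Agent.Lib.CosetEnum.HeMult.Data

/-!
# Checks of the programs
-/

set_option autoImplicit false
set_option maxRecDepth 100000

namespace Cfsg.Lib.CosetEnum.HeMult

open HeInvol

/-- The first extra relator. -/
def relOdd : List Nat := [5, 6, 5, 6, 4]

theorem small_ok : progsW wsData exs relOdd (HeS44.cert.R0.take 50) progsSmall = true := by decide +kernel

theorem ws_ok : wsData.all letters = true := by decide +kernel

theorem exs_ok : exsOK wsData exs = true := by decide +kernel

theorem start0 : target exs relOdd (HeS44.cert.R0.getD 50 []) = mid0_0 := by decide +kernel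

theorem run0_0 : runW wsData prog0_0 mid0_0 mid0_1 = true := by decide +kernel

theorem run0_1 : runW wsData prog0_1 mid0_1 mid0_2 = true := by decide +kernel

theorem run0_2 : runW wsData prog0_2 mid0_2 mid0_3 = true := by decide +kernel

theorem run0_3 : runW wsData prog0_3 mid0_3 mid0_4 = true := by decide +kernel

theorem run0_4 : runW wsData prog0_4 mid0_4 mid0_5 = true := by decide +kernel

theorem run0_5 : runW wsData prog0_5 mid0_5 mid0_6 = true := by decide +kernel

theorem run0_6 : runW wsData prog0_6 mid0_6 mid0_7 = true := by decide +kernel

theorem run0_7 : runW wsData prog0_7 mid0_7 mid0_8 = true := by decide +kernel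

theorem run0_8 : runW wsData prog0_8 mid0_8 mid0_9 = true := by decide +kernel

theorem run0_9 : runW wsData prog0_9 mid0_9 mid0_10 = true := by decide +kernel

theorem end0 : mid0_10 = [] := rfl

theorem start1 : target exs relOdd (HeS44.cert.R0.getD 51 []) = mid1_0 := by decide +kernel

theorem run1_0 : runW wsData prog1_0 mid1_0 mid1_1 = true := by decide +kernel

theorem run1_1 : runW wsData prog1_1 mid1_1 mid1_2 = true := by decide +kernel

theorem run1_2 : runW wsData prog1_2 mid1_2 mid1_3 = true := by decide +kernel

theorem run1_3 : runW wsData prog1_3 mid1_3 mid1_4 = true := by decide +kernel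

theorem run1_4 : runW wsData prog1_4 mid1_4 mid1_5 = true := by decide +kernel

theorem run1_5 : runW wsData prog1_5 mid1_5 mid1_6 = true := by decide +kernel

theorem run1_6 : runW wsData prog1_6 mid1_6 mid1_7 = true := by decide +kernel

theorem end1 : mid1_7 = [] := rfl

theorem start2 : target exs relOdd (HeS44.cert.R0.getD 52 []) = mid2_0 := by decide +kernel

theorem run2_0 : runW wsData prog2_0 mid2_0 mid2_1 = true := by decide +kernel

theorem run2_1 : runW wsData prog2_1 mid2_1 mid2_2 = true := by decide +kernel

theorem run2_2 : runW wsData prog2_2 mid2_2 mid2_3 = true := by decide +kernel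

theorem run2_3 : runW wsData prog2_3 mid2_3 mid2_4 = true := by decide +kernel

theorem run2_4 : runW wsData prog2_4 mid2_4 mid2_5 = true := by decide +kernel

theorem run2_5 : runW wsData prog2_5 mid2_5 mid2_6 = true := by decide +kernel

theorem run2_6 : runW wsData prog2_6 mid2_6 mid2_7 = true := by decide +kernel

theorem run2_7 : runW wsData prog2_7 mid2_7 mid2_8 = true := by decide +kernel

theorem end2 : mid2_8 = [] := rfl

/-- The generators of the centraliser of the involution. -/
def gensC : List (List Nat) := (wordQ.drop 1).take 6 ++ (wordL.drop 1).take 2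

theorem comms_ok : commsOK gensC comms = true := by decide +kernel

end Cfsg.Lib.CosetEnum.HeMult
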