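import Cfsg.Agent.Lib.CosetEnum.HeInvol.Defs

/-!
# Rewriting products of conjugates of an involution of the Held group

An index stands for a word `u`, and this for the conjugate of the fifth generator by `u`.
-/

set_option autoImplicit false

namespace Cfsg.Lib.CosetEnum.HeMult

open HeInvol

/-- The word of the conjugate by `u`. -/
def cwW (u : List Nat) : List Nat := u.reverse ++ 4 :: u

/-- The conjugate with an index. -/
def cwAt (ws : List (List Nat)) (i : Nat) : List Nat := cwW (ws.getD i [])

/-- One step: `(i, 0, _)` deletes an equal pair at `i`, `(i, 1, c)` replaces `a, b` at `i` by `c, a`,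
`(i, 2, c)` inserts the pair `c, c` at `i`. -/
noncomputable def stepW (ws : List (List Nat)) (op : Nat × Nat × Nat) (q : List Nat) :
    Option (List Nat) :=
  match op.2.1 with
  | 0 => match q.drop op.1 with
    | a :: b :: t => cond (Nat.beq a b) (some (q.take op.1 ++ t)) none
    | _ => none
  | 1 => match q.drop op.1 with
    | a :: b :: t =>
      cond (sameW (cwAt ws a ++ cwAt ws b ++ cwAt ws a) (cwAt ws op.2.2))
        (some (q.take op.1 ++ op.2.2 :: a :: t)) none
    | _ => none
  | _ => some (q.take op.1 ++ op.2.2 :: op.2.2 :: q.drop op.1)

/-- A program turns one sequence into another. -/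
noncomputable def runW (ws : List (List Nat)) : List (Nat × Nat × Nat) → List Nat → List Nat → Bool
  | [], q, r => beqW q r
  | op :: ops, q, r => match stepW ws op q with
    | some q' => runW ws ops q' r
    | none => false

/-- The indices for a word, in the order of the product. -/
def seqW (exs : List (List Nat)) (r : List Nat) : List Nat :=
  r.reverse.flatMap fun g => exs.getD g []

/-- The sequence that is to vanish: the one of the relator, after that of the first extra relator if
the length is odd. -/
def target (exs : List (List Nat)) (r₁ r : List Nat) : List Nat :=
  if Nat.beq ((seqW exs r).length % 2) 0 then seqW exs r else seqW exs r₁ ++ seqW exs r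

/-- Programs for a list of relators. -/
noncomputable def progsW (ws exs : List (List Nat)) (r₁ : List Nat) :
    List (List Nat) → List (List (Nat × Nat × Nat)) → Bool
  | [], [] => true
  | r :: rs, P :: Ps =>
    runW ws P (target exs r₁ r) [] && progsW ws exs r₁ rs Ps
  | _, _ => false

/-- The sequences of the letters give the letters. -/
noncomputable def exsOK (ws exs : List (List Nat)) : Bool :=
  Nat.beq exs.length 7 &&
    (List.range 7).all fun g => sameW ((exs.getD g []).reverse.flatMap (cwAt ws)) [g]

/-- The word of a commutator. -/
def commW (u v : List Nat) : List Nat := v.reverse ++ u.reverse ++ v ++ u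

/-- A word in the generators of the centraliser. -/
def centW (gs : List (List Nat)) (u : List Nat) : List Nat := u.flatMap fun i => gs.getD i []

/-- The generators are products of commutators. -/
noncomputable def commsOK (gs : List (List Nat)) (cs : List (List (List Nat × List Nat))) : Bool :=
  (List.range gs.length).all fun i =>
    sameW ((cs.getD i []).flatMap fun p => commW (centW gs p.1) (centW gs p.2)) (gs.getD i [])

end Cfsg.Lib.CosetEnum.HeMult
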